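import Groth.Agent.Lib.ARSys.Sub
import Mathlib.CategoryTheory.Simple
import Mathlib.CategoryTheory.Preadditive.Schur
import Mathlib.Order.JordanHolder
import Mathlib.Order.Atoms

/-!
# Simple subquotients are covering relations in the lattice of subobjects
-/

universe v u

open CategoryTheory CategoryTheory.Limits

namespace GrothLib.AbLength

variable {C : Type u} [Category.{v} C] [Abelian C] {X : C}

open GrothLib.ARSys in
/-- Subobjects of an epi target are the subobjects containing the kernel. -/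
noncomputable def iciKernelIso {Y Z : C} (f : Y ⟶ Z) [Epi f] :
    Set.Ici (kernelSubobject f) ≃o Subobject Z where
  toFun S := img f S.1
  invFun T := ⟨pre f T, ker_le_pre f T⟩
  left_inv S := Subtype.ext ((pre_img f S.1).trans (sup_eq_left.2 S.2))
  right_inv T := img_pre_of_epi f T
  map_rel_iff' := by
    rintro ⟨S, hS⟩ ⟨T, hT⟩
    constructor
    · intro h
      have := pre_mono f h
      simp only [Equiv.coe_fn_mk] at this
      rwa [pre_img, pre_img, sup_eq_left.2 hS, sup_eq_left.2 hT] at this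
    · exact fun h => img_mono f h

/-- A subquotient is simple iff it is a covering relation. -/
theorem simple_cokernel_ofLE_iff {S T : Subobject X} (h : S ≤ T) :
    Simple (cokernel (Subobject.ofLE S T h)) ↔ S ⋖ T := by
  rw [simple_iff_subobject_isSimpleOrder,
    ← (iciKernelIso (cokernel.π (Subobject.ofLE S T h))).isSimpleOrder_iff,
    Set.isSimpleOrder_Ici_iff_isCoatom, ← OrderIso.isCoatom_iff (Subobject.subobjectOrderIso T),
    Set.Iic.isCoatom_iff]
  suffices h' : ((Subobject.subobjectOrderIso T) (kernelSubobject (cokernel.π (Subobject.ofLE S T h))) :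
      Subobject X) = S by rw [h']
  have hk : kernelSubobject (cokernel.π (Subobject.ofLE S T h)) = Subobject.mk (Subobject.ofLE S T h) := by
    refine le_antisymm (Subobject.le_mk_of_comm
      (Abelian.monoLift (Subobject.ofLE S T h) (kernelSubobject _).arrow (kernelSubobject_arrow_comp _)) ?_)
      (le_kernelSubobject _ _ (by
        rw [← Subobject.underlyingIso_hom_comp_eq_mk, Category.assoc, cokernel.condition, comp_zero]))
    exact Abelian.monoLift_comp _ _ _
  rw [hk]
  simp [Subobject.subobjectOrderIso]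
  exact Subobject.mk_eq_of_comm _ (Subobject.underlyingIso _) (by simp [← Subobject.underlyingIso_hom_comp_eq_mk])

/-- The subquotient `b / a ⊓ b`. -/
noncomputable abbrev quot (p : Subobject X × Subobject X) : C :=
  cokernel (Subobject.ofLE (p.1 ⊓ p.2) p.2 inf_le_right)

theorem nonempty_quot_iso {S T : Subobject X} (h : S ≤ T) :
    Nonempty (quot (S, T) ≅ cokernel (Subobject.ofLE S T h)) := by
  have e : S ⊓ T = S := inf_eq_left.2 h
  have : ∀ (U : Subobject X) (hU : U ≤ T), U = S →
      Nonempty (cokernel (Subobject.ofLE U T hU) ≅ cokernel (Subobject.ofLE S T h)) := by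
    rintro U hU rfl
    exact ⟨Iso.refl _⟩
  exact this _ _ e

theorem nonempty_second_iso {x y : Subobject X} (h : x ⋖ x ⊔ y) :
    Nonempty (quot (x, x ⊔ y) ≅ quot (x ⊓ y, y)) := by
  have h' : x ⊓ y ⋖ y := by
    refine CovBy.inf_of_sup_left ?_
    exact h
  obtain ⟨e₁⟩ := nonempty_quot_iso (le_sup_left : x ≤ x ⊔ y)
  obtain ⟨e₂⟩ := nonempty_quot_iso (inf_le_right : x ⊓ y ≤ y)
  haveI := (simple_cokernel_ofLE_iff (le_sup_left : x ≤ x ⊔ y)).2 h
  haveI := (simple_cokernel_ofLE_iff (inf_le_right : x ⊓ y ≤ y)).2 h'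
  let φ : cokernel (Subobject.ofLE (x ⊓ y) y inf_le_right) ⟶
      cokernel (Subobject.ofLE x (x ⊔ y) le_sup_left) :=
    cokernel.map _ _ (Subobject.ofLE (x ⊓ y) x inf_le_left) (Subobject.ofLE y (x ⊔ y) le_sup_right)
      (by rw [Subobject.ofLE_comp_ofLE, Subobject.ofLE_comp_ofLE])
  have hφ : φ ≠ 0 := fun h0 => by
    have h1 : Subobject.ofLE y (x ⊔ y) le_sup_right ≫
        cokernel.π (Subobject.ofLE x (x ⊔ y) le_sup_left) = 0 := by
      have := cokernel.π (Subobject.ofLE (x ⊓ y) y inf_le_right) ≫= h0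
      simpa [φ] using this
    have h2 := Abelian.monoLift_comp _ _ h1
    have hyx : y ≤ x := Subobject.le_of_comm
      (Abelian.monoLift (Subobject.ofLE x (x ⊔ y) le_sup_left) _ h1) (by
        rw [← Subobject.ofLE_arrow (le_sup_left : x ≤ x ⊔ y), ← Category.assoc, h2, Subobject.ofLE_arrow])
    exact h.lt.ne (sup_eq_left.2 hyx).symm
  haveI := isIso_of_hom_simple hφ
  exact ⟨e₁ ≪≫ (asIso φ).symm ≪≫ e₂.symm⟩

theorem nonempty_quot_iso_of_iso {p q : Subobject X × Subobject X}
    (h : JordanHolderLattice.Iso p q) : Nonempty (quot p ≅ quot q) := by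
  induction h with
  | rel a b hab =>
    obtain ⟨x, s⟩ := a
    obtain ⟨t, y⟩ := b
    obtain ⟨h1, h2, h3⟩ := hab
    subst h2 h3
    exact nonempty_second_iso h1
  | refl a => exact ⟨Iso.refl _⟩
  | symm a b _ ih => exact ih.map Iso.symm
  | trans a b c _ _ ih₁ ih₂ =>
    obtain ⟨e⟩ := ih₁
    obtain ⟨e'⟩ := ih₂
    exact ⟨e ≪≫ e'⟩

end GrothLib.AbLength
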